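import Mathlib
import Groth.Agent.Lib.Helper1.PBW

/-! Length filtration on the PBW normal forms and leading terms of products. -/

set_option autoImplicit false
universe u v w

namespace Groth.Agent.Lib.Helper5.RPBW
open Groth.Agent.H1.PBW

variable {k : Type u} [CommRing k] {L : Type v} [LieRing L] [LieAlgebra k L]
  {ι : Type w} [LinearOrder ι] (b : Module.Basis ι k L)

/-- normal forms supported on sorted words of length `< m` -/
def Flt (k : Type u) [CommRing k] (ι : Type w) [LinearOrder ι] (m : ℕ) : Submodule k (SL ι →₀ k) :=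
  Finsupp.supported k k {s : SL ι | s.1.length < m}

theorem Flt_mono {m m' : ℕ} (h : m ≤ m') : Flt k ι m ≤ Flt k ι m' :=
  Finsupp.supported_mono fun _ hs => lt_of_lt_of_le hs h

theorem N_mem_Flt : ∀ l : List ι, N b l ∈ Flt k ι (l.length + 1) := by
  apply word_induction
  · intro l hl
    rw [N_sorted b hl]
    apply Finsupp.single_mem_supported
    show l.length < l.length + 1
    omega
  · intro u i j v _ ih1 ih2
    rw [N_swap]
    refine Submodule.add_mem _ ?_ ?_
    · have : (u ++ j :: i :: v).length = (u ++ i :: j :: v).length := by simp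
      rw [← this]; exact ih1
    · rw [Nh_apply]
      apply Submodule.sum_mem
      intro m _
      apply Submodule.smul_mem
      apply Flt_mono _ (ih2 m)
      simp

theorem N_sub_single_mem_Flt : ∀ l : List ι, ∀ s : SL ι, s.1.Perm l →
    N b l - Finsupp.single s 1 ∈ Flt k ι l.length := by
  apply word_induction
  · intro l hl s hs
    have : s = ⟨l, hl⟩ := Subtype.ext (hs.eq_of_sortedLE s.2 hl)
    rw [N_sorted b hl, this, sub_self]
    exact Submodule.zero_mem _
  · intro u i j v _ ih1 ih2 s hs
    rw [N_swap]
    have hperm : s.1.Perm (u ++ j :: i :: v) :=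
      hs.trans (List.Perm.append_left u (List.Perm.swap j i v))
    have h1 := ih1 s hperm
    have hlen : (u ++ j :: i :: v).length = (u ++ i :: j :: v).length := by simp
    rw [hlen] at h1
    have h2 : Nh b u v ⁅b i, b j⁆ ∈ Flt k ι (u ++ i :: j :: v).length := by
      rw [Nh_apply]
      apply Submodule.sum_mem
      intro m _
      apply Submodule.smul_mem
      apply Flt_mono _ (N_mem_Flt b _)
      simp
    have : N b (u ++ j :: i :: v) + Nh b u v ⁅b i, b j⁆ - Finsupp.single s 1 =
        (N b (u ++ j :: i :: v) - Finsupp.single s 1) + Nh b u v ⁅b i, b j⁆ := by abel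
    rw [this]
    exact Submodule.add_mem _ h1 h2

/-- span of unordered monomials of length `< m` -/
def UF (m : ℕ) : Submodule k (UniversalEnvelopingAlgebra k L) :=
  Submodule.span k {y | ∃ l : List ι, l.length < m ∧ y = mon b l}

theorem UF_mono {m m' : ℕ} (h : m ≤ m') : UF b m ≤ UF b m' :=
  Submodule.span_mono fun _ ⟨l, hl, hy⟩ => ⟨l, lt_of_lt_of_le hl h, hy⟩

theorem mon_mem_UF (l : List ι) {m : ℕ} (h : l.length < m) : mon b l ∈ UF b m :=
  Submodule.subset_span ⟨l, h, rfl⟩

theorem UF_le_map (m : ℕ) : UF b m ≤ Submodule.map (evalU b) (Flt k ι m) := by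
  apply Submodule.span_le.mpr
  rintro _ ⟨l, hl, rfl⟩
  exact ⟨N b l, Flt_mono (by omega) (N_mem_Flt b l), evalU_N b l⟩

theorem mul_mem_UF {a c : ℕ} {y y' : UniversalEnvelopingAlgebra k L}
    (hy : y ∈ UF b a) (hy' : y' ∈ UF b (c + 1)) : y * y' ∈ UF b (a + c) := by
  induction hy using Submodule.span_induction with
  | mem y h =>
    obtain ⟨l, hl, rfl⟩ := h
    induction hy' using Submodule.span_induction with
    | mem y' h' =>
      obtain ⟨l', hl', rfl⟩ := h'
      rw [← mon_append]
      exact mon_mem_UF b _ (by simp; omega)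
    | zero => simp
    | add x z _ _ hx hz => rw [mul_add]; exact Submodule.add_mem _ hx hz
    | smul r x _ hx => rw [mul_smul_comm]; exact Submodule.smul_mem _ _ hx
  | zero => simp
  | add x z _ _ hx hz => rw [add_mul]; exact Submodule.add_mem _ hx hz
  | smul r x _ hx => rw [smul_mul_assoc]; exact Submodule.smul_mem _ _ hx

theorem mul_mem_UF' {a c : ℕ} {y y' : UniversalEnvelopingAlgebra k L}
    (hy : y ∈ UF b (a + 1)) (hy' : y' ∈ UF b c) : y * y' ∈ UF b (a + c) := by
  induction hy using Submodule.span_induction with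
  | mem y h =>
    obtain ⟨l, hl, rfl⟩ := h
    induction hy' using Submodule.span_induction with
    | mem y' h' =>
      obtain ⟨l', hl', rfl⟩ := h'
      rw [← mon_append]
      exact mon_mem_UF b _ (by simp; omega)
    | zero => simp
    | add x z _ _ hx hz => rw [mul_add]; exact Submodule.add_mem _ hx hz
    | smul r x _ hx => rw [mul_smul_comm]; exact Submodule.smul_mem _ _ hx
  | zero => simp
  | add x z _ _ hx hz => rw [add_mul]; exact Submodule.add_mem _ hx hz
  | smul r x _ hx => rw [smul_mul_assoc]; exact Submodule.smul_mem _ _ hx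

/-- `y` has leading monomial `mon l` -/
def LT (y : UniversalEnvelopingAlgebra k L) (l : List ι) : Prop := y - mon b l ∈ UF b l.length

theorem LT_mon (l : List ι) : LT b (mon b l) l := by
  unfold LT; rw [sub_self]; exact Submodule.zero_mem _

theorem LT_one : LT b (1 : UniversalEnvelopingAlgebra k L) ([] : List ι) := by
  have := LT_mon b ([] : List ι)
  rwa [mon_nil] at this

theorem LT.mem_UF {y : UniversalEnvelopingAlgebra k L} {l : List ι} (h : LT b y l) :
    y ∈ UF b (l.length + 1) := by
  have : y = (y - mon b l) + mon b l := by abel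
  rw [this]
  exact Submodule.add_mem _ (UF_mono b (by omega) h) (mon_mem_UF b l (by omega))

theorem LT.mul {y y' : UniversalEnvelopingAlgebra k L} {l l' : List ι}
    (h : LT b y l) (h' : LT b y' l') : LT b (y * y') (l ++ l') := by
  unfold LT
  have e : y * y' - mon b (l ++ l') = (y - mon b l) * y' + mon b l * (y' - mon b l') := by
    rw [mon_append]; noncomm_ring
  rw [e, List.length_append]
  refine Submodule.add_mem _ ?_ ?_
  · exact mul_mem_UF b h (h'.mem_UF b)
  · exact mul_mem_UF' b (mon_mem_UF b l (by omega)) h'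

theorem LT.pow {y : UniversalEnvelopingAlgebra k L} {l : List ι} (h : LT b y l) (a : ℕ) :
    LT b (y ^ a) (List.replicate a l).flatten := by
  induction a with
  | zero => simpa using LT_one b
  | succ a ih =>
    rw [pow_succ', List.replicate_succ, List.flatten_cons]
    exact h.mul b ih

theorem LT_list_prod {n : ℕ} (ys : Fin n → UniversalEnvelopingAlgebra k L) (ls : Fin n → List ι)
    (h : ∀ i, LT b (ys i) (ls i)) : LT b (List.ofFn ys).prod (List.ofFn ls).flatten := by
  induction n with
  | zero => simpa using LT_one b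
  | succ n ih =>
    rw [List.ofFn_succ, List.ofFn_succ, List.prod_cons, List.flatten_cons]
    exact (h 0).mul b (ih _ _ fun i => h i.succ)

/-- from a leading monomial to the leading PBW basis vector -/
theorem LT.sub_mon_sorted {y : UniversalEnvelopingAlgebra k L} {l : List ι} (h : LT b y l)
    (s : SL ι) (hs : s.1.Perm l) :
    y - mon b s.1 ∈ Submodule.map (evalU b) (Flt k ι l.length) := by
  have e : y - mon b s.1 = (y - mon b l) + (mon b l - mon b s.1) := by abel
  rw [e]
  refine Submodule.add_mem _ (UF_le_map b _ h) ?_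
  refine ⟨N b l - Finsupp.single s 1, N_sub_single_mem_Flt b l s hs, ?_⟩
  rw [map_sub, evalU_N, evalU_single]

end Groth.Agent.Lib.Helper5.RPBW
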