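import Mathlib

/-! A family which is unitriangular with respect to a basis and a degree function is a basis. -/

set_option autoImplicit false

namespace Groth.Agent.Lib.Helper5.RPBW

variable {k : Type*} [CommRing k] {U : Type*} [AddCommGroup U] [Module k U]
  {I : Type*} (B : Module.Basis I k U) (deg : I → ℕ)

/-- span of basis vectors of degree `< m` -/
def Fd (m : ℕ) : Submodule k U := Submodule.span k (B '' {i | deg i < m})

theorem Fd_mono {m m' : ℕ} (h : m ≤ m') : Fd B deg m ≤ Fd B deg m' :=
  Submodule.span_mono (Set.image_mono fun _ hi => lt_of_lt_of_le hi h)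

theorem Fd_zero : Fd B deg 0 = ⊥ := by
  unfold Fd
  simp

theorem exists_mem_Fd (x : U) : ∃ m, x ∈ Fd B deg m := by
  have hx : x ∈ Submodule.span k (Set.range B) := by rw [B.span_eq]; trivial
  induction hx using Submodule.span_induction with
  | mem x h =>
    obtain ⟨i, rfl⟩ := h
    exact ⟨deg i + 1, Submodule.subset_span ⟨i, Nat.lt_succ_self _, rfl⟩⟩
  | zero => exact ⟨0, Submodule.zero_mem _⟩
  | add x y _ _ hx hy =>
    obtain ⟨m, hm⟩ := hx
    obtain ⟨m', hm'⟩ := hy
    exact ⟨max m m', Submodule.add_mem _ (Fd_mono B deg (le_max_left _ _) hm)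
      (Fd_mono B deg (le_max_right _ _) hm')⟩
  | smul c x _ hx =>
    obtain ⟨m, hm⟩ := hx
    exact ⟨m, Submodule.smul_mem _ _ hm⟩

variable (Θ : I → U) (hΘ : ∀ i, Θ i - B i ∈ Fd B deg (deg i))

include hΘ in
theorem constr_sub_mem (m : ℕ) (x : U) (hx : x ∈ Fd B deg (m + 1)) :
    B.constr k Θ x - x ∈ Fd B deg m := by
  induction hx using Submodule.span_induction with
  | mem x h =>
    obtain ⟨i, hi, rfl⟩ := h
    rw [Module.Basis.constr_basis]
    exact Fd_mono B deg (Nat.lt_succ_iff.mp hi) (hΘ i)
  | zero => simp
  | add x y _ _ hx hy =>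
    have : B.constr k Θ (x + y) - (x + y) = (B.constr k Θ x - x) + (B.constr k Θ y - y) := by
      rw [map_add]; abel
    rw [this]; exact Submodule.add_mem _ hx hy
  | smul c x _ hx =>
    have : B.constr k Θ (c • x) - c • x = c • (B.constr k Θ x - x) := by
      rw [map_smul, smul_sub]
    rw [this]; exact Submodule.smul_mem _ _ hx

include hΘ in
theorem constr_injective : Function.Injective (B.constr k Θ) := by
  rw [injective_iff_map_eq_zero]
  have key : ∀ m : ℕ, ∀ x ∈ Fd B deg m, B.constr k Θ x = 0 → x = 0 := by
    intro m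
    induction m with
    | zero =>
      intro x hx _
      rw [Fd_zero] at hx
      exact (Submodule.mem_bot k).mp hx
    | succ m ih =>
      intro x hx h0
      have h1 := constr_sub_mem B deg Θ hΘ m x hx
      rw [h0, zero_sub] at h1
      exact ih x (by simpa using Submodule.neg_mem _ h1) h0
  intro x hx
  obtain ⟨m, hm⟩ := exists_mem_Fd B deg x
  exact key m x hm hx

include hΘ in
theorem constr_surjective : Function.Surjective (B.constr k Θ) := by
  have key : ∀ m : ℕ, Fd B deg m ≤ LinearMap.range (B.constr k Θ) := by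
    intro m
    induction m with
    | zero => rw [Fd_zero]; exact bot_le
    | succ m ih =>
      intro x hx
      have h1 := constr_sub_mem B deg Θ hΘ m x hx
      have h2 := ih h1
      have : x = B.constr k Θ x - (B.constr k Θ x - x) := by abel
      rw [this]
      exact Submodule.sub_mem _ ⟨x, rfl⟩ h2
  intro x
  obtain ⟨m, hm⟩ := exists_mem_Fd B deg x
  exact key m hm

/-- the unitriangular family as a basis -/
noncomputable def triBasis : Module.Basis I k U :=
  B.map (LinearEquiv.ofBijective (B.constr k Θ)
    ⟨constr_injective B deg Θ hΘ, constr_surjective B deg Θ hΘ⟩)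

theorem triBasis_apply (i : I) : triBasis B deg Θ hΘ i = Θ i := by
  simp [triBasis]

end Groth.Agent.Lib.Helper5.RPBW
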