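import Mathlib
import Groth.Agent.Lib.Helper1.PBW

/-! Sorted lists over `Fin n` and multiplicity vectors. -/

set_option autoImplicit false

namespace Groth.Agent.Lib.Helper5.RPBW
open Groth.Agent.H1.PBW

/-- the sorted list with multiplicities `γ` -/
def srt (n : ℕ) (γ : Fin n → ℕ) : List (Fin n) :=
  (List.ofFn fun i => List.replicate (γ i) i).flatten

theorem srt_sorted (n : ℕ) (γ : Fin n → ℕ) : (srt n γ).SortedLE := by
  rw [List.sortedLE_iff_pairwise, srt, List.pairwise_flatten]
  constructor
  · intro l hl
    rw [List.mem_ofFn] at hl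
    obtain ⟨i, rfl⟩ := hl
    exact (List.sortedLE_replicate (γ i)).pairwise
  · rw [List.pairwise_ofFn]
    intro i j hij x hx y hy
    rw [List.mem_replicate] at hx hy
    rw [hx.2, hy.2]
    exact le_of_lt hij

theorem count_srt (n : ℕ) (γ : Fin n → ℕ) (j : Fin n) : (srt n γ).count j = γ j := by
  rw [srt, List.count_flatten, List.map_ofFn, List.sum_ofFn]
  simp only [Function.comp_apply, List.count_replicate]
  rw [Finset.sum_eq_single j]
  · simp
  · intro i _ hij
    simp [hij]
  · simp

/-- sorted lists from multiplicity vectors -/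
def sig (n : ℕ) (γ : Fin n → ℕ) : SL (Fin n) := ⟨srt n γ, srt_sorted n γ⟩

theorem sig_injective (n : ℕ) : Function.Injective (sig n) := by
  intro γ γ' h
  funext j
  have := congrArg (fun s : SL (Fin n) => s.1.count j) h
  simpa [sig, count_srt] using this

theorem sig_surjective (n : ℕ) : Function.Surjective (sig n) := by
  intro s
  refine ⟨fun j => s.1.count j, Subtype.ext ?_⟩
  apply List.Perm.eq_of_sortedLE (srt_sorted n _) s.2
  rw [List.perm_iff_count]
  intro j
  exact count_srt n _ j

/-- the equivalence between multiplicity vectors and sorted lists -/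
noncomputable def sigE (n : ℕ) : (Fin n → ℕ) ≃ SL (Fin n) :=
  Equiv.ofBijective (sig n) ⟨sig_injective n, sig_surjective n⟩

@[simp] theorem sigE_apply (n : ℕ) (γ : Fin n → ℕ) : sigE n γ = sig n γ := rfl

/-- the leading list of `∏ z_i^{β_i}` -/
def lz (n p : ℕ) (β : Fin n → ℕ) : List (Fin n) :=
  (List.ofFn fun i => (List.replicate (β i) (List.replicate p i)).flatten).flatten

theorem count_lz (n p : ℕ) (β : Fin n → ℕ) (j : Fin n) : (lz n p β).count j = β j * p := by
  rw [lz, List.count_flatten, List.map_ofFn, List.sum_ofFn]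
  simp only [Function.comp_apply, List.count_flatten, List.map_replicate, List.sum_replicate,
    List.count_replicate, smul_eq_mul]
  rw [Finset.sum_eq_single j]
  · simp
  · intro i _ hij
    simp [hij]
  · simp

theorem sig_perm (n p : ℕ) (γ : Fin n → ℕ) :
    (sig n γ).1.Perm (lz n p (fun i => γ i / p) ++ srt n (fun i => γ i % p)) := by
  rw [List.perm_iff_count]
  intro j
  rw [List.count_append, count_lz, count_srt]
  show (srt n γ).count j = _
  rw [count_srt]
  exact (Nat.div_add_mod' (γ j) p).symm

theorem sig_single (n : ℕ) (i : Fin n) : (sig n (Pi.single i 1)).1 = [i] := by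
  apply List.Perm.eq_of_sortedLE (srt_sorted n _) (by simp [List.sortedLE_iff_pairwise])
  rw [List.perm_iff_count]
  intro j
  show (srt n _).count j = _
  rw [count_srt]
  by_cases h : i = j
  · subst h; simp
  · simp [Pi.single_apply, h, Ne.symm h, List.count_singleton]

end Groth.Agent.Lib.Helper5.RPBW
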