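import Mathlib
import Groth.Prelude.Def_PLie
import Groth.Agent.Lib.Helper1.PBW
import Groth.Agent.Lib.Helper2.PLieAssoc
import Groth.Agent.Lib.Helper5.RPBW.A
import Groth.Agent.Lib.Helper5.RPBW.B
import Groth.Agent.Lib.Helper5.RPBW.C

/-! The central elements `z_i = b_i^p - φ(b_i)` and the basis `z^β b^α` of `U(L)`. -/

set_option autoImplicit false
universe u v

namespace Groth.Agent.Lib.Helper5.RPBW
open Groth.Agent.H1.PBW PLie

attribute [local instance] LieRing.ofAssociativeRing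

variable {k : Type u} [Field k] {p : ℕ} [hp : Fact p.Prime] [CharP k p]
  {L : Type v} [LieRing L] [LieAlgebra k L] (φ : PLie.PMap k p L)

local notation "𝔘" => UniversalEnvelopingAlgebra k L
local notation "ιU" => UniversalEnvelopingAlgebra.ι k (L := L)

/-- `x^p - x^[p]` in the enveloping algebra -/
noncomputable def zel (x : L) : 𝔘 := ιU x ^ p - ιU (φ x)

theorem zel_comm_ι (x w : L) : zel φ x * ιU w = ιU w * zel φ x := by
  have he : ∀ a c : L, (ιU : L →ₗ⁅k⁆ 𝔘).toLinearMap ⁅a, c⁆ =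
      (ιU : L →ₗ⁅k⁆ 𝔘).toLinearMap a * (ιU : L →ₗ⁅k⁆ 𝔘).toLinearMap c -
        (ιU : L →ₗ⁅k⁆ 𝔘).toLinearMap c * (ιU : L →ₗ⁅k⁆ 𝔘).toLinearMap a := by
    intro a c
    simp only [LieHom.coe_toLinearMap, LieHom.map_lie, Ring.lie_def]
  have h1 := Groth.Agent.H2.PLieAssoc.map_ad_pow_assoc (R := k) (p := p)
    ((ιU : L →ₗ⁅k⁆ 𝔘).toLinearMap) he x w
  have h2 : (LieAlgebra.ad k L x ^ p) w = ⁅φ x, w⁆ := by
    rw [← φ.ad_map x, LieAlgebra.ad_apply]
  rw [h2, he] at h1
  simp only [LieHom.coe_toLinearMap] at h1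
  unfold zel
  rw [sub_mul, mul_sub]
  have : ιU x ^ p * ιU w - ιU (φ x) * ιU w = ιU w * ιU x ^ p - ιU w * ιU (φ x) := by
    have := h1
    have e : ιU x ^ p * ιU w - ιU w * ιU x ^ p = ιU (φ x) * ιU w - ιU w * ιU (φ x) := h1.symm
    calc ιU x ^ p * ιU w - ιU (φ x) * ιU w
        = (ιU x ^ p * ιU w - ιU w * ιU x ^ p) + ιU w * ιU x ^ p - ιU (φ x) * ιU w := by abel
      _ = ιU w * ιU x ^ p - ιU w * ιU (φ x) := by rw [e]; abel
  exact this

variable {n : ℕ} (b : Module.Basis (Fin n) k L)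

include b in
theorem zel_comm (x : L) (u : 𝔘) : zel φ x * u = u * zel φ x := by
  have hu : u ∈ Submodule.span k (Set.range (mon (k := k) b)) := by rw [span_mon]; trivial
  induction hu using Submodule.span_induction with
  | mem u h =>
    obtain ⟨l, rfl⟩ := h
    induction l with
    | nil => simp
    | cons i l ih =>
      rw [mon_cons, ← mul_assoc, zel_comm_ι, mul_assoc, ih, mul_assoc]
  | zero => simp
  | add x y _ _ hx hy => rw [mul_add, add_mul, hx, hy]
  | smul c x _ hx => rw [mul_smul_comm, smul_mul_assoc, hx]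

/-- `z_i` as an element of the centre -/
noncomputable def zc (i : Fin n) : Subalgebra.center k 𝔘 :=
  ⟨zel φ (b i), Subalgebra.mem_center_iff.mpr fun u => (zel_comm φ b (b i) u).symm⟩

/-- `z^β` in the centre -/
noncomputable def Zc (β : Fin n → ℕ) : Subalgebra.center k 𝔘 := ∏ i, zc φ b i ^ β i

/-- `z^β` -/
noncomputable def Zel (β : Fin n → ℕ) : 𝔘 := (Zc φ b β : 𝔘)

theorem Zel_comm (β : Fin n → ℕ) (u : 𝔘) : Zel φ b β * u = u * Zel φ b β :=
  (Subalgebra.mem_center_iff.mp (Zc φ b β).2 u).symm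

theorem Zel_eq_list (β : Fin n → ℕ) :
    Zel φ b β = (List.ofFn fun i => zel φ (b i) ^ β i).prod := by
  unfold Zel Zc
  rw [← List.prod_ofFn]
  have := map_list_prod (Subalgebra.center k 𝔘).val (List.ofFn fun i => zc φ b i ^ β i)
  rw [Subalgebra.coe_val] at this
  rw [this, List.map_ofFn]
  rfl

theorem Zel_zero : Zel φ b (fun _ => 0) = 1 := by
  unfold Zel Zc
  simp

theorem Zel_add_single (β : Fin n → ℕ) (i : Fin n) :
    Zel φ b (β + Pi.single i 1) = zel φ (b i) * Zel φ b β := by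
  unfold Zel Zc
  have : ∏ j, zc φ b j ^ ((β + Pi.single i 1 : Fin n → ℕ) j) = zc φ b i * ∏ j, zc φ b j ^ β j := by
    simp only [Pi.add_apply, pow_add, Finset.prod_mul_distrib]
    rw [mul_comm]
    congr 1
    rw [Finset.prod_eq_single i]
    · simp
    · intro j _ hj; simp [Pi.single_apply, hj]
    · simp
  rw [this]
  rfl

theorem Zel_of_pos (β : Fin n → ℕ) (i : Fin n) (hi : 0 < β i) :
    ∃ c : 𝔘, Zel φ b β = c * zel φ (b i) := by
  have : β = (Function.update β i (β i - 1)) + Pi.single i 1 := by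
    funext j
    by_cases hj : j = i
    · subst hj; simp; omega
    · simp [Function.update_of_ne hj, Pi.single_apply, hj]
  rw [this, Zel_add_single]
  exact ⟨_, (Zel_comm φ b _ _).symm⟩

/-- the candidate basis `z^{γ / p} b^{γ % p}` -/
noncomputable def Th (γ : Fin n → ℕ) : 𝔘 :=
  Zel φ b (fun i => γ i / p) * mon b (srt n (fun i => γ i % p))

theorem ι_mem_UF (y : L) : ιU y ∈ UF b 2 := by
  have hy : y ∈ Submodule.span k (Set.range b) := by rw [b.span_eq]; trivial
  induction hy using Submodule.span_induction with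
  | mem y h =>
    obtain ⟨i, rfl⟩ := h
    have : ιU (b i) = mon b [i] := by simp [mon]
    rw [this]
    exact mon_mem_UF b _ (by simp)
  | zero => simp
  | add x y _ _ hx hy => rw [map_add]; exact Submodule.add_mem _ hx hy
  | smul c x _ hx => rw [map_smul]; exact Submodule.smul_mem _ _ hx

theorem LT_zel (i : Fin n) : LT b (zel φ (b i)) (List.replicate p i) := by
  unfold LT
  have h1 : mon b (List.replicate p i) = ιU (b i) ^ p := by
    simp [mon, List.map_replicate, List.prod_replicate]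
  rw [h1, List.length_replicate]
  unfold zel
  rw [sub_sub_cancel_left]
  exact Submodule.neg_mem _ (UF_mono b hp.out.two_le (ι_mem_UF b _))

theorem LT_Zel (β : Fin n → ℕ) : LT b (Zel φ b β) (lz n p β) := by
  rw [Zel_eq_list]
  exact LT_list_prod b _ _ fun i => (LT_zel φ b i).pow b (β i)

theorem LT_Th (γ : Fin n → ℕ) :
    LT b (Th φ b γ) (lz n p (fun i => γ i / p) ++ srt n (fun i => γ i % p)) :=
  (LT_Zel φ b _).mul b (LT_mon b _)

/-- the PBW basis indexed by multiplicity vectors -/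
noncomputable def Bpbw : Module.Basis (Fin n → ℕ) k 𝔘 :=
  (Classical.choose (pbw b)).reindex (sigE n).symm

theorem Bpbw_apply (γ : Fin n → ℕ) : Bpbw b γ = mon b (srt n γ) := by
  unfold Bpbw
  rw [Module.Basis.reindex_apply, Equiv.symm_symm, Classical.choose_spec (pbw b)]
  rfl

/-- total degree -/
def dg (n : ℕ) (γ : Fin n → ℕ) : ℕ := (srt n γ).length

theorem map_evalU_Flt_le (m : ℕ) :
    Submodule.map (evalU b) (Flt k (Fin n) m) ≤ Fd (Bpbw b) (dg n) m := by
  unfold Flt
  rw [Finsupp.supported_eq_span_single, Submodule.map_span, Submodule.span_le]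
  rintro _ ⟨_, ⟨s, hs, rfl⟩, rfl⟩
  rw [evalU_single]
  obtain ⟨γ, rfl⟩ := sig_surjective n s
  apply Submodule.subset_span
  exact ⟨γ, hs, Bpbw_apply b γ⟩

theorem Th_sub_mem (γ : Fin n → ℕ) : Th φ b γ - Bpbw b γ ∈ Fd (Bpbw b) (dg n) (dg n γ) := by
  have h := (LT_Th φ b γ).sub_mon_sorted b (sig n γ) (sig_perm n p γ)
  rw [Bpbw_apply]
  have hlen : (lz n p (fun i => γ i / p) ++ srt n (fun i => γ i % p)).length = dg n γ :=
    (sig_perm n p γ).length_eq.symm
  rw [hlen] at h
  exact map_evalU_Flt_le b _ h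

/-- the basis `z^β b^α` of the enveloping algebra -/
noncomputable def TB : Module.Basis (Fin n → ℕ) k 𝔘 :=
  triBasis (Bpbw b) (dg n) (Th φ b) (Th_sub_mem φ b)

theorem TB_apply (γ : Fin n → ℕ) : TB φ b γ = Th φ b γ := triBasis_apply _ _ _ _ γ

end Groth.Agent.Lib.Helper5.RPBW
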