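import Mathlib
import Groth.Prelude.Def_PLie
import Groth.Agent.Lib.Helper5.RPBW.D

/-! The restricted enveloping quotient and the faithful restricted representation. -/

set_option autoImplicit false
universe u v

namespace Groth.Agent.Lib.Helper5.RPBW
open Groth.Agent.H1.PBW PLie

attribute [local instance] LieRing.ofAssociativeRing

variable {k : Type u} [Field k] {p : ℕ} [hp : Fact p.Prime] [CharP k p]
  {L : Type v} [LieRing L] [LieAlgebra k L] (φ : PLie.PMap k p L)
  {n : ℕ} (b : Module.Basis (Fin n) k L)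

local notation "𝔘" => UniversalEnvelopingAlgebra k L
local notation "ιU" => UniversalEnvelopingAlgebra.ι k (L := L)

/-- the left ideal generated by the `z_i` -/
noncomputable def Jid : Ideal 𝔘 := Ideal.span (Set.range fun i => zel φ (b i))

/-- multiplicity vectors with some entry `≥ p` -/
def Bad (n p : ℕ) : Set (Fin n → ℕ) := {γ | ∃ i, p ≤ γ i}

theorem Th_mem_Jid (γ : Fin n → ℕ) (hγ : γ ∈ Bad n p) : Th φ b γ ∈ Jid φ b := by
  obtain ⟨i, hi⟩ := hγ
  have hpos : 0 < γ i / p := Nat.div_pos hi hp.out.pos
  obtain ⟨c, hc⟩ := Zel_of_pos φ b (fun j => γ j / p) i hpos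
  unfold Th
  rw [hc, mul_assoc, zel_comm φ b, ← mul_assoc]
  exact Ideal.mul_mem_left _ _ (Ideal.subset_span ⟨i, rfl⟩)

theorem Th_mul_zel (γ : Fin n → ℕ) (i : Fin n) :
    Th φ b γ * zel φ (b i) = Th φ b (γ + p • Pi.single i 1) := by
  unfold Th
  have h1 : (fun j => (γ + p • Pi.single i 1 : Fin n → ℕ) j / p) =
      (fun j => γ j / p) + Pi.single i 1 := by
    funext j
    by_cases hj : j = i
    · subst hj
      simp [Nat.add_div_right _ hp.out.pos]
    · simp [Pi.single_apply, hj]
  have h2 : (fun j => (γ + p • Pi.single i 1 : Fin n → ℕ) j % p) = fun j => γ j % p := by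
    funext j
    by_cases hj : j = i
    · subst hj
      simp
    · simp [Pi.single_apply, hj]
  rw [h1, h2, Zel_add_single, mul_assoc (zel φ (b i)), zel_comm φ b (b i)]

theorem Jid_le : (Jid φ b).restrictScalars k ≤ Submodule.span k (TB φ b '' Bad n p) := by
  intro y hy
  have hy' : y ∈ Jid φ b := hy
  unfold Jid at hy'
  rw [Ideal.span, Submodule.mem_span_range_iff_exists_fun] at hy'
  obtain ⟨c, rfl⟩ := hy'
  apply Submodule.sum_mem
  intro i _
  have hc : c i ∈ Submodule.span k (Set.range (TB φ b)) := by rw [(TB φ b).span_eq]; trivial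
  show c i * zel φ (b i) ∈ _
  generalize c i = ci at hc ⊢
  induction hc using Submodule.span_induction with
  | mem u h =>
    obtain ⟨γ, rfl⟩ := h
    rw [TB_apply, Th_mul_zel, ← TB_apply]
    apply Submodule.subset_span
    refine ⟨_, ⟨i, ?_⟩, rfl⟩
    simp
  | zero => simp
  | add x y _ _ hx hy => rw [add_mul]; exact Submodule.add_mem _ hx hy
  | smul r x _ hx => rw [smul_mul_assoc]; exact Submodule.smul_mem _ _ hx

theorem ι_basis_eq_TB (i : Fin n) : ιU (b i) = TB φ b (Pi.single i 1) := by
  rw [TB_apply]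
  unfold Th
  have h1 : (fun j => (Pi.single i 1 : Fin n → ℕ) j / p) = fun _ => 0 := by
    funext j
    apply Nat.div_eq_of_lt
    by_cases hj : j = i
    · subst hj; simpa using hp.out.one_lt
    · simp [Pi.single_apply, hj, hp.out.pos]
  have h2 : (fun j => (Pi.single i 1 : Fin n → ℕ) j % p) = Pi.single i 1 := by
    funext j
    apply Nat.mod_eq_of_lt
    by_cases hj : j = i
    · subst hj; simpa using hp.out.one_lt
    · simp [Pi.single_apply, hj, hp.out.pos]
  rw [h1, h2, Zel_zero, one_mul]
  have := sig_single n i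
  change srt n (Pi.single i 1) = [i] at this
  rw [this]
  simp [mon]

theorem eq_zero_of_ι_mem_Jid (x : L) (h : ιU x ∈ Jid φ b) : x = 0 := by
  classical
  have h1 := Jid_le φ b h
  rw [Module.Basis.mem_span_image] at h1
  have hx : ιU x = ∑ i, b.repr x i • TB φ b (Pi.single i 1) := by
    conv_lhs => rw [← b.sum_repr x]
    rw [map_sum]
    refine Finset.sum_congr rfl fun i _ => ?_
    rw [map_smul, ι_basis_eq_TB φ b]
  have hrepr : ∀ i, (TB φ b).repr (ιU x) (Pi.single i 1) = b.repr x i := by
    intro i
    rw [hx, map_sum, Finsupp.finsetSum_apply]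
    rw [Finset.sum_eq_single i]
    · simp
    · intro j _ hj
      rw [map_smul, Module.Basis.repr_self, Finsupp.smul_apply, Finsupp.single_apply,
        if_neg, smul_zero]
      intro hEq
      apply hj
      by_contra hji
      have := congrFun hEq j
      simp [Pi.single_apply, hji] at this
    · simp
  have hc : ∀ i, b.repr x i = 0 := by
    intro i
    by_contra hne
    have hmem : (Pi.single i 1 : Fin n → ℕ) ∈ ((TB φ b).repr (ιU x)).support := by
      rw [Finsupp.mem_support_iff, hrepr]; exact hne
    obtain ⟨j, hj⟩ := h1 hmem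
    have : (Pi.single i 1 : Fin n → ℕ) j ≤ 1 := by
      by_cases hji : j = i
      · subst hji; simp
      · simp [Pi.single_apply, hji]
    have := hp.out.one_lt
    omega
  have : b.repr x = 0 := Finsupp.ext hc
  exact (b.repr.map_eq_zero_iff).mp this

end Groth.Agent.Lib.Helper5.RPBW
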