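import Mathlib
import Groth.Prelude.Def_PLie
import Groth.Agent.Lib.Helper5.RPBW.E

/-! The faithful finite-dimensional restricted representation on `U(L)/J`. -/

set_option autoImplicit false
universe u v

namespace Groth.Agent.Lib.Helper5.RPBW
open Groth.Agent.H1.PBW PLie

attribute [local instance] LieRing.ofAssociativeRing

variable {k : Type u} [Field k] {p : ℕ} [hp : Fact p.Prime] [CharP k p]
  {L : Type v} [LieRing L] [LieAlgebra k L] (φ : PLie.PMap k p L)
  {n : ℕ} (b : Module.Basis (Fin n) k L)

local notation "𝔘" => UniversalEnvelopingAlgebra k L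
local notation "ιU" => UniversalEnvelopingAlgebra.ι k (L := L)

/-- the restricted quotient as a left module -/
abbrev Wq : Type (max u v) := 𝔘 ⧸ Jid φ b

/-- the action of `U(L)` on the quotient -/
noncomputable def rhoW : 𝔘 →ₐ[k] Module.End k (Wq φ b) := Algebra.lsmul k k (Wq φ b)

theorem rhoW_mk (u v : 𝔘) :
    rhoW φ b u (Submodule.Quotient.mk v) = Submodule.Quotient.mk (u * v) := rfl

theorem rhoW_zel (i : Fin n) : rhoW φ b (zel φ (b i)) = 0 := by
  apply LinearMap.ext
  intro w
  induction w using Submodule.Quotient.induction_on with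
  | H v =>
    rw [rhoW_mk, zel_comm φ b, LinearMap.zero_apply, Submodule.Quotient.mk_eq_zero]
    exact Ideal.mul_mem_left _ _ (Ideal.subset_span ⟨i, rfl⟩)

/-- the representation of `L` -/
noncomputable def eW : L →ₗ[k] Module.End k (Wq φ b) :=
  (rhoW φ b).toLinearMap ∘ₗ (ιU : L →ₗ⁅k⁆ 𝔘).toLinearMap

theorem eW_apply (x : L) : eW φ b x = rhoW φ b (ιU x) := rfl

theorem eW_lie (x y : L) : eW φ b ⁅x, y⁆ = eW φ b x * eW φ b y - eW φ b y * eW φ b x := by
  rw [eW_apply, eW_apply, eW_apply, LieHom.map_lie, Ring.lie_def, map_sub, map_mul, map_mul]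

theorem eW_injective : Function.Injective (eW φ b) := by
  rw [injective_iff_map_eq_zero]
  intro x hx
  apply eq_zero_of_ι_mem_Jid φ b
  have := congrArg (fun f : Module.End k (Wq φ b) => f (Submodule.Quotient.mk 1)) hx
  simp only [eW_apply, rhoW_mk, mul_one, LinearMap.zero_apply] at this
  exact (Submodule.Quotient.mk_eq_zero _).mp this

theorem eW_pmap_basis (i : Fin n) : eW φ b (φ (b i)) = eW φ b (b i) ^ p := by
  have h := rhoW_zel φ b i
  unfold zel at h
  rw [map_sub, map_pow, sub_eq_zero] at h
  rw [eW_apply, eW_apply]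
  exact h.symm

theorem eW_pmap (x : L) : eW φ b (φ x) = eW φ b x ^ p := by
  have hx : x ∈ Submodule.span k (Set.range b) := by rw [b.span_eq]; trivial
  have hJ : ∀ x y, eW φ b (jacobson k p x y) = jacobson k p (eW φ b x) (eW φ b y) := fun x y =>
    Groth.Agent.LD.PL.map_jacobson p
      (Groth.Agent.H2.PLieAssoc.toLieHom (eW φ b) (eW_lie φ b)) x y
  induction hx using Submodule.span_induction with
  | mem x h =>
    obtain ⟨i, rfl⟩ := h
    exact eW_pmap_basis φ b i
  | zero =>
    rw [Groth.Agent.LD.PL.PMap.map_zero, map_zero, zero_pow hp.out.ne_zero]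
  | add x y _ _ hx hy =>
    rw [φ.map_add, map_sub, map_add, hx, hy, hJ, map_add,
      Groth.Agent.H2.JacAssoc.add_pow_char_eq_jacobson k p]
  | smul c x _ hx =>
    rw [φ.map_smul, map_smul, hx, map_smul, smul_pow]

theorem eW_isPSub : PLie.IsPSubOfAssoc φ (eW φ b) :=
  ⟨eW_injective φ b, eW_lie φ b, eW_pmap φ b⟩

theorem good_finite (n p : ℕ) : ({γ : Fin n → ℕ | ∀ i, γ i < p} : Set (Fin n → ℕ)).Finite := by
  have : {γ : Fin n → ℕ | ∀ i, γ i < p} = Set.pi Set.univ (fun _ => Set.Iio p) := by
    ext γ; simp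
  rw [this]
  exact Set.Finite.pi fun _ => Set.finite_Iio p

theorem Wq_finite : Module.Finite k (Wq φ b) := by
  classical
  refine ⟨?_⟩
  have hfin := good_finite n p
  refine ⟨(hfin.image fun γ => (Submodule.Quotient.mk (TB φ b γ) : Wq φ b)).toFinset, ?_⟩
  rw [Set.Finite.coe_toFinset, eq_top_iff]
  rintro w -
  induction w using Submodule.Quotient.induction_on with
  | H v =>
    have hv : v ∈ Submodule.span k (Set.range (TB φ b)) := by rw [(TB φ b).span_eq]; trivial
    induction hv using Submodule.span_induction with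
    | mem v h =>
      obtain ⟨γ, rfl⟩ := h
      by_cases hγ : ∀ i, γ i < p
      · exact Submodule.subset_span ⟨γ, hγ, rfl⟩
      · have hbad : γ ∈ Bad n p := by
          simp only [not_forall, not_lt] at hγ
          exact hγ
        have : (Submodule.Quotient.mk (TB φ b γ) : Wq φ b) = 0 := by
          rw [Submodule.Quotient.mk_eq_zero, TB_apply]
          exact Th_mem_Jid φ b γ hbad
        rw [this]; exact Submodule.zero_mem _
    | zero => exact Submodule.zero_mem _
    | add x y _ _ hx hy =>
      rw [Submodule.Quotient.mk_add]; exact Submodule.add_mem _ hx hy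
    | smul c x _ hx =>
      have : (Submodule.Quotient.mk (c • x) : Wq φ b) = c • Submodule.Quotient.mk x := rfl
      rw [this]; exact Submodule.smul_mem _ _ hx

end Groth.Agent.Lib.Helper5.RPBW
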