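import Mathlib
import Groth.Prelude.Def_PLie
import Groth.Agent.Lib.Helper5.RPBW.F

set_option autoImplicit false
universe u v

namespace Groth.Agent.Lib.Helper5.RPBW
open PLie

theorem main17337 (k : Type u) [Field k] (p : ℕ) [Fact p.Prime] [CharP k p]
    (L : Type v) [LieRing L] [LieAlgebra k L] [Module.Finite k L] (φ : PLie.PMap k p L) :
    ∃ (n : ℕ) (e : L →ₗ[k] Matrix (Fin n) (Fin n) k), PLie.IsPSubOfAssoc φ e := by
  classical
  let b := Module.finBasis k L
  haveI : Module.Finite k (Wq φ b) := Wq_finite φ b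
  let B := Module.finBasis k (Wq φ b)
  let T := LinearMap.toMatrixAlgEquiv B
  obtain ⟨hinj, hlie, hpow⟩ := eW_isPSub φ b
  refine ⟨Module.finrank k (Wq φ b), T.toLinearMap ∘ₗ eW φ b, ?_, ?_, ?_⟩
  · exact T.injective.comp hinj
  · intro x y
    simp only [LinearMap.comp_apply, AlgEquiv.toLinearMap_apply]
    rw [hlie, map_sub, map_mul, map_mul]
  · intro x
    simp only [LinearMap.comp_apply, AlgEquiv.toLinearMap_apply]
    rw [hpow, map_pow]

end Groth.Agent.Lib.Helper5.RPBW
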